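import Groth.Agent.S18126
import Groth.Agent.ExtBCLib.Basic
import Mathlib

/-!
# Base change of `T¹` for flat complete intersections with generically smooth fibres
-/

set_option autoImplicit false
set_option linter.unusedSectionVars false
set_option linter.style.haveILetI false
set_option maxSynthPendingDepth 3

universe u

open IsLocalRing TensorProduct

namespace FlatLCIExtLib

/-- An associated prime of a flat algebra with Gorenstein fibres is minimal in its fibre. -/
theorem minimal_in_fibre {A P : Type u} [CommRing A] [IsNoetherianRing A] [CommRing P] [Algebra A P] [Module.Flat A P]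
    [IsNoetherianRing P]
    (hG : ∀ (p : Ideal A) [p.IsPrime], LocCoh.IsGorensteinRing (P ⊗[A] p.ResidueField))
    {𝔓 : PrimeSpectrum P} (J0 : Ideal A) (h : 𝔓.asIdeal ∈ associatedPrimes P (P ⧸ J0.map (algebraMap A P))) (𝔔 : PrimeSpectrum P) (hle : 𝔔 ≤ 𝔓)
    (hc : 𝔔.asIdeal.comap (algebraMap A P) = 𝔓.asIdeal.comap (algebraMap A P)) : 𝔔 = 𝔓 := by
  let p := 𝔓.asIdeal.comap (algebraMap A P)
  have h1 : 𝔓.asIdeal ∈ associatedPrimes P (P ⧸ p.map (algebraMap A P) • (⊤ : Submodule P P)) := by
    refine Groth.Agent.S2069.mem_fibre (M := A ⧸ J0) ?_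
    let e0 : (P ⊗[A] (A ⧸ J0)) ≃ₗ[P] (P ⧸ J0.map (algebraMap A P)) :=
      (Algebra.TensorProduct.quotIdealMapEquivTensorQuot P J0).symm.toLinearEquiv
    rwa [LinearEquiv.AssociatedPrimes.eq e0]
  obtain ⟨t, ht⟩ := h1.2
  obtain ⟨t₀, rfl⟩ := Submodule.Quotient.mk_surjective _ t
  let F := p.Fiber P
  haveI : LocCoh.IsGorensteinRing F :=
    GorLib.gorensteinRing_of_ringEquiv (Algebra.TensorProduct.comm A P p.ResidueField).symm.toRingEquiv (hG p)
  let ι : P →+* F := Algebra.TensorProduct.includeRight.toRingHom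
  let J : Ideal F := (⊥ : Submodule F F).colon {ι t₀}
  have hker : ∀ x, ι x = 0 → x ∈ p.map (algebraMap A P) := fun x hx => by
    have hinj : Function.Injective (((Algebra.linearMap (A ⧸ p) p.ResidueField).restrictScalars A).rTensor P) :=
      Module.Flat.rTensor_preserves_injective_linearMap _ p.injective_algebraMap_quotient_residueField
    have h0 : (1 : A ⧸ p) ⊗ₜ[A] x = 0 := hinj (by
      rw [map_zero, LinearMap.rTensor_tmul]
      show (algebraMap (A ⧸ p) p.ResidueField 1) ⊗ₜ[A] x = 0
      rw [map_one]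
      exact hx)
    have h2 := congrArg (TensorProduct.quotTensorEquivQuotSMul P p) h0
    rw [show (1 : A ⧸ p) = Ideal.Quotient.mk p 1 from rfl, TensorProduct.quotTensorEquivQuotSMul_mk_tmul, one_smul,
      map_zero, Submodule.Quotient.mk_eq_zero, Ideal.smul_top_eq_map, Submodule.restrictScalars_mem] at h2
    exact h2
  have hzero : ∀ x, x ∈ p.map (algebraMap A P) → ι x = 0 := by
    have : p.map (algebraMap A P) ≤ RingHom.ker ι := Ideal.map_le_iff_le_comap.2 fun a ha => by
      rw [Ideal.mem_comap, RingHom.mem_ker]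
      show (1 : p.ResidueField) ⊗ₜ[A] algebraMap A P a = 0
      rw [Algebra.algebraMap_eq_smul_one, ← smul_tmul, ← Algebra.algebraMap_eq_smul_one,
        Ideal.algebraMap_residueField_eq_zero.2 ha, zero_tmul]
    exact fun x hx => RingHom.mem_ker.1 (this hx)
  have hP : 𝔓.asIdeal = (J.comap ι).radical := by
    refine ht.trans ?_
    congr 1
    ext a
    simp only [Submodule.mem_colon_singleton, Submodule.mem_bot, Ideal.mem_comap, J, smul_eq_mul,
      ← map_mul, ← Submodule.Quotient.mk_smul, Submodule.Quotient.mk_eq_zero, Ideal.mul_top]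
    exact ⟨hzero _, hker _⟩
  have hmin : 𝔓.asIdeal ∈ (J.comap ι).minimalPrimes := by
    rw [← Ideal.radical_minimalPrimes, ← hP, Ideal.minimalPrimes_eq_subsingleton_self]
    rfl
  obtain ⟨Q, hQ, hQP⟩ := Ideal.exists_minimalPrimes_comap_eq ι _ hmin
  haveI := hQ.1.1
  have hQass : Q ∈ associatedPrimes F F := by
    have hJ : (Submodule.span F {ι t₀}).annihilator = J := by
      ext a
      simp [J, Submodule.mem_annihilator_span_singleton, Submodule.mem_colon_singleton]
    exact associatedPrimes.subset_of_injective (Submodule.span F {ι t₀}).injective_subtype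
      (Module.associatedPrimes.minimalPrimes_annihilator_subset_associatedPrimes F (Submodule.span F {ι t₀}) (by
        show Q ∈ (Submodule.span F {ι t₀}).annihilator.minimalPrimes
        rw [hJ]
        exact hQ))
  have hQmin := Groth.Agent.S18126.minimal_of_gorenstein hQass
  let e := PrimeSpectrum.preimageOrderIsoFiber A P ⟨p, inferInstance⟩
  let x : ↥(PrimeSpectrum.comap (algebraMap A P) ⁻¹' {⟨p, inferInstance⟩}) := ⟨𝔓, PrimeSpectrum.ext rfl⟩
  let y : ↥(PrimeSpectrum.comap (algebraMap A P) ⁻¹' {⟨p, inferInstance⟩}) := ⟨𝔔, PrimeSpectrum.ext hc⟩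
  have hx : e.symm ⟨Q, inferInstance⟩ = x := Subtype.ext (PrimeSpectrum.ext hQP)
  have hyx : e y ≤ ⟨Q, inferInstance⟩ := by
    rw [← OrderIso.apply_symm_apply e ⟨Q, inferInstance⟩, hx]
    exact e.monotone hle
  have : e y = ⟨Q, inferInstance⟩ := le_antisymm hyx (hQmin.2 ⟨(e y).2, bot_le⟩ hyx)
  exact congrArg Subtype.val ((e.symm_apply_apply y).symm.trans ((congrArg e.symm this).trans hx))


/-- A left inverse up to a unit where the cokernel is free and the kernel vanishes. -/
theorem exists_retraction {R : Type u} [CommRing R] {M N Ω : Type u} [AddCommGroup M] [Module R M] [Module.Finite R M]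
    [AddCommGroup N] [Module R N] [AddCommGroup Ω] [Module R Ω] {ι : Type*} [Fintype ι] (bs : Module.Basis ι R N)
    (f : M →ₗ[R] N) (g : N →ₗ[R] Ω) (hex : Function.Exact f g) (hg : Function.Surjective g) (𝔓 : Ideal R) [𝔓.IsPrime]
    (hker : Subsingleton (LocalizedModule 𝔓.primeCompl (LinearMap.ker f)))
    (hfree : Module.Free (Localization.AtPrime 𝔓) (LocalizedModule 𝔓.primeCompl Ω)) :
    ∃ (r : N →ₗ[R] M) (s : R), s ∉ 𝔓 ∧ r ∘ₗ f = s • LinearMap.id := by
  classical
  let S := 𝔓.primeCompl
  let fl := LocalizedModule.map S f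
  have hex2 : Function.Exact (LocalizedModule.map S f) (LocalizedModule.map S g) := LocalizedModule.map_exact S f g hex
  have hex1 : Function.Exact (LocalizedModule.map S (LinearMap.ker f).subtype) (LocalizedModule.map S f) :=
    LocalizedModule.map_exact S _ f (LinearMap.exact_subtype_ker_map f)
  have hinj : Function.Injective (LocalizedModule.map S f) := (injective_iff_map_eq_zero _).2 fun x hx => by
    obtain ⟨y, rfl⟩ := (hex1 x).1 hx
    rw [Subsingleton.elim y 0, map_zero]
  have hsur : Function.Surjective (LocalizedModule.map S g) := LocalizedModule.map_surjective S g hg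
  obtain ⟨σ, hσ⟩ := Module.projective_lifting_property (LocalizedModule.map S g) LinearMap.id hsur
  obtain ⟨l, hl⟩ := ((Function.Exact.split_tfae hex2 hinj hsur).out 0 1 rfl rfl).1 ⟨σ, hσ⟩
  have hx : ∀ i, ∃ (x : M) (s : S), l (LocalizedModule.mk (bs i) 1) = LocalizedModule.mk x s := fun i => by
    induction l (LocalizedModule.mk (bs i) 1) using LocalizedModule.induction_on with
    | h x s => exact ⟨x, s, rfl⟩
  choose x s hxs using hx
  let s0 : R := ∏ i, (s i : R)
  let r0 : N →ₗ[R] M := bs.constr R fun i => (∏ j ∈ Finset.univ.erase i, (s j : R)) • x i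
  have h0 : LocalizedModule.mkLinearMap S M ∘ₗ r0 =
      s0 • ((l.restrictScalars R) ∘ₗ LocalizedModule.mkLinearMap S N) := by
    refine bs.ext fun i => ?_
    simp only [LinearMap.comp_apply, r0, Module.Basis.constr_basis, LinearMap.smul_apply, LinearMap.restrictScalars_apply,
      LocalizedModule.mkLinearMap_apply, hxs, LocalizedModule.smul'_mk]
    rw [LocalizedModule.mk_eq]
    refine ⟨1, ?_⟩
    simp only [Submonoid.smul_def, OneMemClass.coe_one, one_smul, smul_smul]
    congr 1
    exact Finset.mul_prod_erase Finset.univ (fun j => (s j : R)) (Finset.mem_univ i)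
  obtain ⟨G, hG⟩ := ‹Module.Finite R M›.fg_top
  have ht : ∀ z : M, ∃ t : S, (t : R) • (r0 (f z) - s0 • z) = 0 := fun z => by
    have h1 := LinearMap.congr_fun h0 (f z)
    simp only [LinearMap.comp_apply, LinearMap.smul_apply, LinearMap.restrictScalars_apply,
      LocalizedModule.mkLinearMap_apply] at h1
    have h2 : l (LocalizedModule.mk (f z) 1) = LocalizedModule.mk z 1 := by
      have := LinearMap.congr_fun hl (LocalizedModule.mk z 1)
      rwa [LinearMap.comp_apply, LocalizedModule.map_mk] at this
    rw [h2, LocalizedModule.smul'_mk, LocalizedModule.mk_eq] at h1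
    obtain ⟨t, ht⟩ := h1
    exact ⟨t, by simpa [Submonoid.smul_def, smul_sub, sub_eq_zero] using ht⟩
  choose t ht using ht
  refine ⟨(∏ z ∈ G, (t z : R)) • r0, (∏ z ∈ G, (t z : R)) * s0, ?_, ?_⟩
  · exact 𝔓.primeCompl.mul_mem (prod_mem fun z _ => (t z).2) (prod_mem fun i _ => (s i).2)
  · refine LinearMap.ext_on (hG : Submodule.span R (G : Set M) = ⊤) fun z hz => ?_
    simp only [LinearMap.comp_apply, LinearMap.smul_apply, LinearMap.id_apply, mul_smul]
    rw [← sub_eq_zero, ← smul_sub, ← Finset.prod_erase_mul _ _ (Finset.mem_coe.1 hz), mul_smul, ht, smul_zero]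

/-- Base change of the differentials along the quotient by an ideal of the base. -/
theorem exists_kaehlerEquiv {A P : Type u} [CommRing A] [CommRing P] [Algebra A P] (J : Ideal A) :
    Nonempty ((P ⧸ J.map (algebraMap A P)) ⊗[P] Ω[P⁄A] ≃ₗ[P ⧸ J.map (algebraMap A P)]
      Ω[P ⧸ J.map (algebraMap A P)⁄A]) := by
  let P' := P ⧸ J.map (algebraMap A P)
  have hsur : Function.Surjective (algebraMap P P') := Ideal.Quotient.mk_surjective
  refine ⟨LinearEquiv.ofBijective (KaehlerDifferential.mapBaseChange A P P')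
    ⟨(injective_iff_map_eq_zero _).2 fun x hx => ?_, KaehlerDifferential.mapBaseChange_surjective _ _ _ hsur⟩⟩
  obtain ⟨y, rfl⟩ := (KaehlerDifferential.exact_kerCotangentToTensor_mapBaseChange A P P' hsur x).1 hx
  obtain ⟨z, rfl⟩ := Ideal.toCotangent_surjective _ y
  rw [KaehlerDifferential.kerCotangentToTensor_toCotangent]
  have hz : (z : P) ∈ Ideal.span (algebraMap A P '' (J : Set A)) := Ideal.Quotient.eq_zero_iff_mem.1 z.2
  have h0 : ∀ w ∈ Ideal.span (algebraMap A P '' (J : Set A)),
      (1 : P') ⊗ₜ[P] KaehlerDifferential.D A P w = 0 := by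
    intro w hw
    induction hw using Submodule.span_induction with
    | mem w hw =>
      obtain ⟨a, -, rfl⟩ := hw
      rw [Derivation.map_algebraMap, TensorProduct.tmul_zero]
    | zero => rw [map_zero, TensorProduct.tmul_zero]
    | add w w' _ _ hw hw' => rw [map_add, TensorProduct.tmul_add, hw, hw', add_zero]
    | smul b w hwm hw =>
      have hzero : algebraMap P P' w = 0 := Ideal.Quotient.eq_zero_iff_mem.2 hwm
      rw [smul_eq_mul, Derivation.leibniz, TensorProduct.tmul_add, TensorProduct.tmul_smul, hw, smul_zero, zero_add,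
        TensorProduct.tmul_smul, TensorProduct.smul_tmul', Algebra.smul_def, hzero, zero_mul, TensorProduct.zero_tmul]
  exact h0 _ hz

/-- The cotangent complex stays injective modulo an ideal of the base. -/
theorem injective_baseChange {A P : Type u} [CommRing A] [IsNoetherianRing A] [CommRing P] [Algebra A P]
    [Module.Flat A P] (hlci : LCI.IsLCI A P)
    (hgs : ∀ 𝔓 : PrimeSpectrum P,
      (∀ 𝔔 : PrimeSpectrum P, 𝔔 ≤ 𝔓 →
          𝔔.asIdeal.comap (algebraMap A P) = 𝔓.asIdeal.comap (algebraMap A P) → 𝔔 = 𝔓) →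
        𝔓 ∈ Algebra.smoothLocus A P)
    {n : ℕ} (G : Algebra.Generators A P (ULift.{u} (Fin n))) [Module.Finite P G.toExtension.Cotangent]
    [Module.Projective P G.toExtension.Cotangent] (J : Ideal A) :
    Function.Injective (G.toExtension.cotangentComplex.baseChange (P ⧸ J.map (algebraMap A P))) := by
  classical
  haveI : Algebra.FiniteType A P := hlci.1
  haveI : IsNoetherianRing P := Algebra.FiniteType.isNoetherianRing A P
  let P' := P ⧸ J.map (algebraMap A P)
  rw [injective_iff_map_eq_zero]
  intro z hz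
  by_contra hne
  obtain ⟨𝔓, h𝔓, hle⟩ := exists_le_isAssociatedPrime_of_isNoetherianRing P z hne
  obtain ⟨c, v, w, -, -, hvw⟩ := Module.Finite.exists_comp_eq_id_of_projective P G.toExtension.Cotangent
  let emb : P' ⊗[P] G.toExtension.Cotangent →ₗ[P] (Fin c → P') :=
    ((TensorProduct.piScalarRight P P' P' (Fin c)).toLinearMap ∘ₗ w.baseChange P').restrictScalars P
  have hemb : Function.Injective emb := by
    refine (TensorProduct.piScalarRight P P' P' (Fin c)).injective.comp (Function.LeftInverse.injective (g := v.baseChange P') fun x => ?_)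
    rw [← LinearMap.comp_apply, ← LinearMap.baseChange_comp, hvw, LinearMap.baseChange_id]
    rfl
  obtain ⟨hprime, y, hy⟩ := (isAssociatedPrime_iff (R := P)).1 (h𝔓.map_of_injective emb hemb)
  obtain ⟨i, hi⟩ : ∃ i, 𝔓 = (⊥ : Submodule P P').colon {y i} := by
    have hle : (Finset.univ.inf fun i => (⊥ : Submodule P P').colon {y i}) ≤ 𝔓 := fun a ha => by
      rw [hy, Submodule.mem_colon_singleton, Submodule.mem_bot]
      funext i
      exact (Submodule.mem_bot P).1 (Submodule.mem_colon_singleton.1 ((Finset.inf_le (f := fun i => (⊥ : Submodule P P').colon {y i}) (Finset.mem_univ i)) ha))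
    obtain ⟨i, -, hi⟩ := (Ideal.IsPrime.inf_le' hprime).1 hle
    refine ⟨i, le_antisymm (fun a ha => ?_) hi⟩
    rw [hy, Submodule.mem_colon_singleton, Submodule.mem_bot] at ha
    rw [Submodule.mem_colon_singleton, Submodule.mem_bot]
    exact congrFun ha i
  have hass : 𝔓 ∈ associatedPrimes P P' := (isAssociatedPrime_iff (R := P)).2 ⟨hprime, y i, hi⟩
  have hsm := hgs ⟨𝔓, hprime⟩ fun 𝔔 h1 h2 =>
    minimal_in_fibre (fun p _ => GorLib.gorensteinRing_fibre_of_flat_isLCI hlci p) J hass 𝔔 h1 h2
  rw [Algebra.smoothLocus_eq_compl_support_inter] at hsm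
  haveI := hprime
  have hker : Subsingleton (LocalizedModule 𝔓.primeCompl (LinearMap.ker G.toExtension.cotangentComplex)) := by
    have h := Module.notMem_support_iff.1 hsm.1
    have hs : Module.support P (Algebra.H1Cotangent A P) = Module.support P G.toExtension.H1Cotangent :=
      G.equivH1Cotangent.symm.support_eq
    exact Module.notMem_support_iff.1 (show (⟨𝔓, hprime⟩ : PrimeSpectrum P) ∉
      Module.support P G.toExtension.H1Cotangent by rw [← hs]; exact hsm.1)
  obtain ⟨r, s, hs, hr⟩ := exists_retraction G.cotangentSpaceBasis G.toExtension.cotangentComplex G.toExtension.toKaehler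
    G.toExtension.exact_cotangentComplex_toKaehler G.toExtension.toKaehler_surjective 𝔓 hker
    (Module.mem_freeLocus.1 hsm.2)
  refine hs (hle ?_)
  rw [Submodule.mem_colon_singleton, Submodule.mem_bot]
  have h1 := congrArg (r.baseChange P') hz
  rw [map_zero, ← LinearMap.comp_apply, ← LinearMap.baseChange_comp, hr, LinearMap.baseChange_smul,
    LinearMap.baseChange_id] at h1
  exact h1

theorem main {A P : Type u} [CommRing A] [IsNoetherianRing A] (h2 : IsUnit (2 : A)) [CommRing P] [Algebra A P]
    [Module.Flat A P] (hlci : LCI.IsLCI A P)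
    (hgs : ∀ 𝔓 : PrimeSpectrum P,
      (∀ 𝔔 : PrimeSpectrum P, 𝔔 ≤ 𝔓 →
          𝔔.asIdeal.comap (algebraMap A P) = 𝔓.asIdeal.comap (algebraMap A P) → 𝔔 = 𝔓) →
        𝔓 ∈ Algebra.smoothLocus A P)
    (J : Ideal A) :
    Nonempty
      ((P ⧸ J.map (algebraMap A P)) ⊗[P]
          CategoryTheory.Abelian.Ext.{u} (ModuleCat.of P (KaehlerDifferential A P)) (ModuleCat.of P P) 1
            ≃ₗ[P ⧸ J.map (algebraMap A P)]
        CategoryTheory.Abelian.Ext.{u}
          (ModuleCat.of (P ⧸ J.map (algebraMap A P)) (KaehlerDifferential A (P ⧸ J.map (algebraMap A P))))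
          (ModuleCat.of (P ⧸ J.map (algebraMap A P)) (P ⧸ J.map (algebraMap A P))) 1) := by
  obtain ⟨n, G, _, _⟩ := NLKerLib.exists_generators hlci
  haveI : Module.Finite P G.toExtension.CotangentSpace := Module.Finite.of_basis G.cotangentSpaceBasis
  haveI : Module.Free P G.toExtension.CotangentSpace := Module.Free.of_basis G.cotangentSpaceBasis
  haveI := Groth.Agent.S18126.result A h2 P hlci hgs
  haveI : Subsingleton G.toExtension.H1Cotangent := G.equivH1Cotangent.toEquiv.subsingleton
  have hinj : Function.Injective G.toExtension.cotangentComplex := (injective_iff_map_eq_zero _).2 fun x hx =>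
    congrArg Subtype.val (@Subsingleton.elim G.toExtension.H1Cotangent inferInstance ⟨x, hx⟩ 0)
  obtain ⟨e⟩ := exists_kaehlerEquiv (P := P) J
  exact ExtBCLib.main _ G.toExtension.cotangentComplex G.toExtension.toKaehler G.toExtension.toKaehler_surjective
    G.toExtension.exact_cotangentComplex_toKaehler hinj (injective_baseChange hlci hgs G J) e

end FlatLCIExtLib
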